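import Mathlib
import Cfsg.Agent.SmallSimple.SylowInter
import Cfsg.Agent.TwoFusion.ElemCentSylow

/-!
# Groups in which all elements of order divisible by an odd prime `p` are conjugate

If `p` is an odd prime divisor of `|G|` and all elements of order divisible by `p` are conjugate, then the
Sylow `p`-subgroup `P` is abelian and the centraliser of each of its nontrivial elements, `N(P)` is
transitive on the nontrivial elements of `P`, and `P` is a trivial intersection subgroup.  So
`|G| = |P| (|P| - 1) n` with `n = 1` modulo `|P|`.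
-/

set_option autoImplicit false

namespace Cfsg.Agent.H723.Odd

open Subgroup MulAction
open scoped Pointwise

universe u

variable {G : Type u} [Group G] [Finite G] {p : ℕ} [hp : Fact p.Prime]

section

variable (hpG : p ∣ Nat.card G)
  (hall : ∀ x y : G, p ∣ orderOf x → p ∣ orderOf y → IsConj x y)

omit [Finite G] hp in
theorem orderOf_conj {x y : G} (h : IsConj x y) : orderOf x = orderOf y := by
  obtain ⟨g, hg⟩ := isConj_iff.1 h
  rw [← hg, ← MulAut.conj_apply, MulEquiv.orderOf_eq]

include hpG hall in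
theorem orderOf_eq (x : G) (hx : p ∣ orderOf x) : orderOf x = p := by
  obtain ⟨t, ht⟩ := exists_prime_orderOf_dvd_card' p hpG
  rw [orderOf_conj (hall x t hx (by rw [ht])), ht]

include hpG hall in
/-- the centraliser of a `p`-singular element is of exponent `p` -/
theorem pow_eq_one {z y : G} (hz : p ∣ orderOf z) (hy : y * z = z * y) : y ^ p = 1 := by
  by_cases h : p ∣ orderOf y
  · rw [← orderOf_eq hpG hall y h, pow_orderOf_eq_one]
  · have hz' := orderOf_eq hpG hall z hz
    have hco : Nat.Coprime (orderOf y) (orderOf z) := by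
      rw [hz']
      exact ((hp.out.coprime_iff_not_dvd).2 h).symm
    have h4 : orderOf (y * z) = orderOf y * p := by
      rw [Commute.orderOf_mul_eq_mul_orderOf_of_coprime hy hco, hz']
    have h5 := orderOf_eq hpG hall (y * z) (by rw [h4]; exact Dvd.intro_left _ rfl)
    have h6 : orderOf y = 1 := by
      have : orderOf y * p = 1 * p := by rw [← h4, h5, one_mul]
      exact Nat.eq_of_mul_eq_mul_right hp.out.pos this
    rw [orderOf_eq_one_iff.1 h6, one_pow]

include hpG hall in
/-- If `p` is odd, the Sylow subgroup `P` is the centraliser of each of its nontrivial elements. -/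
theorem centralizer_eq (hp2 : p ≠ 2) (P : Sylow p G) {x : G} (hx : x ∈ P) (hx1 : x ≠ 1) :
    centralizer {x} = (P : Subgroup G) := by
  -- a central element of `P`
  have hPnt : Nontrivial P := by
    rw [← Finite.one_lt_card_iff_nontrivial]
    exact lt_of_lt_of_le hp.out.one_lt (Nat.le_of_dvd Nat.card_pos (P.dvd_card_of_dvd_card hpG))
  have hcen := P.2.center_nontrivial
  obtain ⟨⟨⟨z, hzP⟩, hzc⟩, hz1⟩ := exists_ne (1 : center P)
  have hz1' : z ≠ 1 := by
    intro h
    apply hz1
    apply Subtype.ext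
    apply Subtype.ext
    exact h
  have hord : ∀ y : G, y ∈ P → y ≠ 1 → p ∣ orderOf y := by
    intro y hy hy1
    obtain ⟨k, hk⟩ := (IsPGroup.iff_orderOf.1 P.2) ⟨y, hy⟩
    rw [← Subgroup.orderOf_coe] at hk
    change orderOf y = p ^ k at hk
    rcases k with _ | k
    · rw [pow_zero, orderOf_eq_one_iff] at hk
      exact absurd hk hy1
    · rw [hk]
      exact dvd_pow_self p (Nat.succ_ne_zero k)
  have hzp : p ∣ orderOf z := hord z hzP hz1'
  have hzcomm : ∀ y ∈ P, y * z = z * y := by
    intro y hy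
    have := mem_center_iff.1 hzc ⟨y, hy⟩
    exact congrArg Subtype.val this
  -- `C(z) = P`
  have hCz : centralizer {z} = (P : Subgroup G) := by
    apply P.3
    · intro y
      obtain ⟨y, hy⟩ := y
      refine ⟨1, ?_⟩
      rw [pow_one]
      apply Subtype.ext
      rw [mem_centralizer_singleton_iff] at hy
      exact pow_eq_one hpG hall hzp hy
    · intro y hy
      rw [mem_centralizer_singleton_iff]
      exact hzcomm y hy
  -- an involution inverting `z`
  obtain ⟨g, hg⟩ := isConj_iff.1 (hall z z⁻¹ hzp (by rw [orderOf_inv]; exact hzp))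
  have hodd : Odd p := hp.out.odd_of_ne_two hp2
  have hgg : ∀ a : G, (g * g) * z * (g * g)⁻¹ = z := by
    intro _
    have e : (g * g) * z * (g * g)⁻¹ = g * (g * z * g⁻¹) * g⁻¹ := by group
    rw [e, hg, ← conj_inv, hg, inv_inv]
  have hg2 : g ^ 2 ∈ centralizer {z} := by
    rw [mem_centralizer_singleton_iff, pow_two]
    have := hgg 1
    rw [mul_inv_eq_iff_eq_mul] at this
    exact this
  obtain ⟨t, ht⟩ : ∃ t, t = g ^ p := ⟨_, rfl⟩
  have htt : t * t = 1 := by
    rw [ht, ← pow_add, ← two_mul, pow_mul]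
    exact pow_eq_one hpG hall hzp ((mem_centralizer_singleton_iff).1 hg2)
  have hti : t⁻¹ = t := inv_eq_of_mul_eq_one_right htt
  have htz : t * z * t⁻¹ = z⁻¹ := by
    obtain ⟨r, hr⟩ := hodd
    rw [ht, hr, pow_add, pow_mul, pow_one]
    have h1 : (g ^ 2) ^ r ∈ centralizer {z} := pow_mem hg2 r
    have h2 : (g ^ 2) ^ r * z⁻¹ = z⁻¹ * (g ^ 2) ^ r := by
      rw [mem_centralizer_singleton_iff] at h1
      rw [mul_inv_eq_iff_eq_mul, mul_assoc, h1, inv_mul_cancel_left]
    calc (g ^ 2) ^ r * g * z * ((g ^ 2) ^ r * g)⁻¹ = (g ^ 2) ^ r * (g * z * g⁻¹) * ((g ^ 2) ^ r)⁻¹ := by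
          group
      _ = z⁻¹ := by rw [hg, h2, mul_inv_cancel_right]
  have ht1 : t ≠ 1 := by
    rintro h
    rw [h] at htz
    simp only [one_mul, inv_one, mul_one] at htz
    have h3 : z ^ 2 = 1 := by
      rw [pow_two]
      nth_rewrite 1 [htz]
      exact inv_mul_cancel z
    have h4 := orderOf_eq hpG hall z hzp
    have h5 := orderOf_dvd_of_pow_eq_one h3
    rw [h4] at h5
    exact hp2 ((Nat.prime_dvd_prime_iff_eq hp.out Nat.prime_two).1 h5)
  have ht2 : orderOf t = 2 := orderOf_eq_prime (by rw [pow_two]; exact htt) ht1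
  -- `t` normalises `P`
  have htP : ∀ y ∈ P, t * y * t⁻¹ ∈ P := by
    intro y hy
    have hy' : y ∈ (P : Subgroup G) := hy
    change t * y * t⁻¹ ∈ (P : Subgroup G)
    rw [← hCz, mem_centralizer_singleton_iff] at hy' ⊢
    have h1 : t * z⁻¹ * t⁻¹ = z := by rw [← conj_inv, htz, inv_inv]
    have h2 : y * z⁻¹ = z⁻¹ * y := by
      rw [mul_inv_eq_iff_eq_mul, mul_assoc, hy', inv_mul_cancel_left]
    calc t * y * t⁻¹ * z = t * y * t⁻¹ * (t * z⁻¹ * t⁻¹) := by rw [h1]
      _ = t * (y * z⁻¹) * t⁻¹ := by group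
      _ = t * (z⁻¹ * y) * t⁻¹ := by rw [h2]
      _ = (t * z⁻¹ * t⁻¹) * (t * y * t⁻¹) := by group
      _ = z * (t * y * t⁻¹) := by rw [h1]
  -- `t` acts without fixed points
  have hfpf : ∀ y ∈ P, t * y * t⁻¹ = y → y = 1 := by
    intro y hy hty
    by_contra hy1
    have h1 := hord y hy hy1
    have h2 := orderOf_eq hpG hall y h1
    have hc : Commute t y := by
      rw [mul_inv_eq_iff_eq_mul] at hty
      exact hty
    have hco : Nat.Coprime (orderOf t) (orderOf y) := by
      rw [ht2, h2]
      exact (Nat.coprime_primes Nat.prime_two hp.out).2 (Ne.symm hp2)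
    have h3 := Commute.orderOf_mul_eq_mul_orderOf_of_coprime hc hco
    rw [ht2, h2] at h3
    have h4 := orderOf_eq hpG hall (t * y) (by rw [h3]; exact Dvd.intro_left _ rfl)
    rw [h3] at h4
    have := hp.out.pos
    omega
  let φ : P →* P :=
    { toFun := fun y => ⟨t * y * t⁻¹, htP y y.2⟩
      map_one' := by apply Subtype.ext; simp
      map_mul' := fun a b => by
        apply Subtype.ext
        change t * (a * b : G) * t⁻¹ = (t * a * t⁻¹) * (t * b * t⁻¹)
        group }
  have hφ : MonoidHom.FixedPointFree φ := by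
    intro y hy
    apply Subtype.ext
    exact hfpf y y.2 (congrArg Subtype.val hy)
  have hφ2 : Function.Involutive φ := by
    intro y
    apply Subtype.ext
    change t * (t * y * t⁻¹) * t⁻¹ = (y : G)
    rw [hti]
    calc t * (t * (y : G) * t) * t = (t * t) * y * (t * t) := by group
      _ = y := by rw [htt, one_mul, mul_one]
  have hab := hφ.commute_all_of_involutive hφ2
  -- counting
  have hle : (P : Subgroup G) ≤ centralizer {x} := by
    intro y hy
    rw [mem_centralizer_singleton_iff]
    exact congrArg Subtype.val (hab ⟨y, hy⟩ ⟨x, hx⟩)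
  obtain ⟨c, hc⟩ := isConj_iff.1 (hall z x hzp (hord x hx hx1))
  symm
  apply Subgroup.eq_of_le_of_card_ge hle
  rw [← hCz]
  apply Nat.card_le_card_of_injective (fun y : centralizer {x} =>
    (⟨c⁻¹ * y * c, by
      rw [mem_centralizer_singleton_iff]
      have := (mem_centralizer_singleton_iff).1 y.2
      have hz : z = c⁻¹ * x * c := by rw [← hc]; group
      rw [hz]
      calc c⁻¹ * (y : G) * c * (c⁻¹ * x * c) = c⁻¹ * (y * x) * c := by group
        _ = c⁻¹ * (x * y) * c := by rw [this]
        _ = c⁻¹ * x * c * (c⁻¹ * y * c) := by group⟩ : centralizer {z}))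
  intro a b hab'
  have h1 : c⁻¹ * (a : G) * c = c⁻¹ * b * c := congrArg Subtype.val hab'
  apply Subtype.ext
  exact mul_left_cancel (mul_right_cancel h1)

omit [Finite G] hp in
/-- the number of conjugates of `z` -/
theorem card_class_mul (z : G) :
    Nat.card {x : G // IsConj z x} * Nat.card (centralizer {z} : Subgroup G) = Nat.card G := by
  have h1 : Nat.card {x : G // IsConj z x} = Nat.card (orbit (ConjAct G) z) := by
    apply Nat.card_congr
    apply Equiv.subtypeEquivRight
    intro x
    rw [ConjAct.mem_orbit_conjAct]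
    exact isConj_comm
  have h2 : Nat.card (orbit (ConjAct G) z) = (stabilizer (ConjAct G) z).index := by
    rw [Nat.card_congr (orbitEquivQuotientStabilizer (ConjAct G) z)]
    rfl
  rw [h1, h2, Subgroup.nat_card_centralizer_nat_card_stabilizer, mul_comm,
    Subgroup.card_mul_index]
  rfl

include hpG hall in
/-- The order of `G`. -/
theorem card_eq (hp2 : p ≠ 2) (P : Sylow p G) :
    Nat.card G = Nat.card P * ((Nat.card P - 1) * Nat.card (Sylow p G)) ∧
      Nat.card (Sylow p G) ≡ 1 [MOD Nat.card P] := by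
  classical
  have hord : ∀ (Q : Sylow p G) (y : G), y ∈ Q → y ≠ 1 → p ∣ orderOf y := by
    intro Q y hy hy1
    obtain ⟨k, hk⟩ := (IsPGroup.iff_orderOf.1 Q.2) ⟨y, hy⟩
    rw [← Subgroup.orderOf_coe] at hk
    change orderOf y = p ^ k at hk
    rcases k with _ | k
    · rw [pow_zero, orderOf_eq_one_iff] at hk
      exact absurd hk hy1
    · rw [hk]
      exact dvd_pow_self p (Nat.succ_ne_zero k)
  have huniq : ∀ (Q R : Sylow p G) (y : G), y ∈ Q → y ∈ R → y ≠ 1 → Q = R := by
    intro Q R y hQ hR hy1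
    apply Sylow.ext
    rw [← centralizer_eq hpG hall hp2 Q hQ hy1, ← centralizer_eq hpG hall hp2 R hR hy1]
  obtain ⟨z, hz⟩ := exists_prime_orderOf_dvd_card' p hpG
  have hz1 : z ≠ 1 := by
    rintro rfl
    rw [orderOf_one] at hz
    exact hp.out.one_lt.ne hz
  have hzpg : ∀ y : G, p ∣ orderOf y → IsPGroup p (zpowers y) := by
    intro y hy
    apply IsPGroup.of_card (n := 1)
    rw [Nat.card_zpowers, orderOf_eq hpG hall y hy, pow_one]
  have hex : ∀ y : G, p ∣ orderOf y → ∃ Q : Sylow p G, y ∈ Q := by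
    intro y hy
    obtain ⟨Q, hQ⟩ := (hzpg y hy).exists_le_sylow
    exact ⟨Q, hQ (mem_zpowers y)⟩
  constructor
  · obtain ⟨Q, hzQ⟩ := hex z (by rw [hz])
    have h1 := card_class_mul z
    rw [centralizer_eq hpG hall hp2 Q hzQ hz1] at h1
    have h2 : ∀ R : Sylow p G, Nat.card R = Nat.card P := fun R => Nat.card_congr (R.equiv P).toEquiv
    have h3 : Nat.card {x : G // IsConj z x} = Nat.card (Σ R : Sylow p G, {y : R // y ≠ 1}) := by
      symm
      apply Nat.card_eq_of_bijective (fun x : (Σ R : Sylow p G, {y : R // y ≠ 1}) =>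
        (⟨(x.2.1 : G), hall z _ (by rw [hz]) (hord x.1 _ x.2.1.2
          (fun h => x.2.2 (Subtype.ext h)))⟩ : {x : G // IsConj z x}))
      constructor
      · rintro ⟨R, ⟨a, ha⟩, ha1⟩ ⟨S, ⟨b, hb⟩, hb1⟩ hab
        have hab' : a = b := congrArg Subtype.val hab
        subst hab'
        have := huniq R S a ha hb (fun h => ha1 (Subtype.ext h))
        subst this
        rfl
      · rintro ⟨a, ha⟩
        have ha1 : a ≠ 1 := by
          rintro rfl
          have := orderOf_conj ha
          rw [hz, orderOf_one] at this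
          exact hp.out.one_lt.ne' this
        obtain ⟨R, hR⟩ := hex a (by rw [← orderOf_conj ha, hz])
        exact ⟨⟨R, ⟨a, hR⟩, fun h => ha1 (congrArg Subtype.val h)⟩, rfl⟩
    have hF : Fintype (Sylow p G) := Fintype.ofFinite _
    rw [h3, Nat.card_sigma] at h1
    have h4 : ∀ R ∈ (Finset.univ : Finset (Sylow p G)),
        Nat.card {y : R // y ≠ 1} = Nat.card P - 1 := by
      intro R _
      rw [Cfsg.Agent.TwoFusion.ElemCentSylow.card_ne (1 : R)]
      congr 1
      exact h2 R
    rw [Finset.sum_congr rfl h4, Finset.sum_const, Finset.card_univ, smul_eq_mul,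
      ← Nat.card_eq_fintype_card] at h1
    have h5 : Nat.card (Q : Subgroup G) = Nat.card P := h2 Q
    rw [h5] at h1
    rw [← h1]
    ring
  · obtain ⟨n, hn⟩ := P.isPGroup'.exists_card_eq
    by_contra hcon
    rw [hn] at hcon
    obtain ⟨R, hPR, hR⟩ := SmallSimple.SylowInter.exists_ne_pow_dvd_card_inf p n n hcon P hn
    have h6 : n + 1 - n = 1 := by omega
    rw [h6, pow_one] at hR
    have hnt : Nontrivial ((P : Subgroup G) ⊓ (R : Subgroup G) : Subgroup G) := by
      rw [← Finite.one_lt_card_iff_nontrivial]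
      exact lt_of_lt_of_le hp.out.one_lt (Nat.le_of_dvd Nat.card_pos hR)
    obtain ⟨⟨a, ha⟩, ha1⟩ := exists_ne (1 : ((P : Subgroup G) ⊓ (R : Subgroup G) : Subgroup G))
    exact hPR (huniq P R a ha.1 ha.2 (fun h => ha1 (Subtype.ext h)))

include hpG hall in
/-- `|G : P| = - 1` modulo `|P|`. -/
theorem dvd_index_add_one (hp2 : p ≠ 2) (P : Sylow p G) :
    Nat.card P ∣ (P : Subgroup G).index + 1 := by
  obtain ⟨h1, h2⟩ := card_eq hpG hall hp2 P
  have h3 : (P : Subgroup G).index = (Nat.card P - 1) * Nat.card (Sylow p G) := by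
    have h4 := Subgroup.card_mul_index (P : Subgroup G)
    rw [h1] at h4
    exact Nat.eq_of_mul_eq_mul_left Nat.card_pos h4
  rw [h3]
  have hpos : 0 < Nat.card P := Nat.card_pos
  rw [← Nat.modEq_zero_iff_dvd]
  have h5 : (Nat.card P - 1) * Nat.card (Sylow p G) + 1 ≡ (Nat.card P - 1) * 1 + 1 [MOD Nat.card P] :=
    (h2.mul_left _).add_right 1
  refine h5.trans ?_
  rw [mul_one, Nat.sub_add_cancel hpos]
  exact (Nat.modEq_zero_iff_dvd).2 dvd_rfl

end

end Cfsg.Agent.H723.Odd
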