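import Mathlib
import Cfsg.Agent.H713.Engine
import Cfsg.Agent.ThreePrime.SzRel
import Cfsg.Agent.H70.SzOut
import Cfsg.Agent.H183.OutAbs
import Cfsg.Agent.H690.LieRow
import Cfsg.Agent.H690.LieGood

/-!
# The Suzuki groups (helper723)

* `not_real` : the element `u 1 0` of order four is not conjugate to its inverse.
* `row_sz` : the row of S4943.
-/

set_option autoImplicit false

namespace Cfsg.Agent.H723.SzRow

open Cfsg Cfsg.Agent.H713 Cfsg.Agent.ThreePrime.SzRel

universe u v w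

section rel

variable {J : Type v} [Group J] {F : Type*} [Field F] (R : Cfsg.Agent.ThreePrime.SzRel.Rel J F)

theorem orderOf_x : orderOf (R.u 1 0) = 4 := by
  have h4 : (4 : ℕ) = 2 ^ (1 + 1) := by norm_num
  rw [h4]
  have : Fact (Nat.Prime 2) := ⟨Nat.prime_two⟩
  apply orderOf_eq_prime_pow
  · rw [pow_one, pow_two, R.u_sq_iff]
    exact one_ne_zero
  · exact R.pow_four (R.u_mem _ _)

theorem x_inv : (R.u 1 0)⁻¹ = R.u 1 1 := by
  rw [R.u_inv, map_one, mul_one, zero_add]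

theorem not_real : ¬ IsConj (R.u 1 0) (R.u 1 0)⁻¹ := by
  intro h
  rw [x_inv] at h
  obtain ⟨g, hg⟩ := isConj_iff.1 h
  have hx1 : R.u 1 0 ≠ 1 := by
    intro h1
    rw [← R.u_zero] at h1
    exact one_ne_zero (R.u_inj h1).1
  obtain ⟨a, b, k, rfl⟩ := R.exists_ud (R.u_mem 1 0) hx1 (by rw [hg]; exact R.u_mem _ _)
  have h1 : (R.u a b * R.d k) * R.u 1 0 * (R.u a b * R.d k)⁻¹ =
      R.u a b * (R.d k * R.u 1 0 * (R.d k)⁻¹) * (R.u a b)⁻¹ := by group
  rw [h1, R.conj_d, R.conj_u] at hg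
  obtain ⟨h2, h3⟩ := R.u_inj hg
  rw [h2, map_one, zero_mul, one_mul, zero_add, mul_one] at h3
  have h4 := congrArg R.θ h3
  rw [map_add, R.sq, map_one] at h4
  have h5 : a ^ 2 - a = 0 := by linear_combination h4 - h3
  have h6 : a * (a - 1) = 0 := by linear_combination h5
  have h7 := R.two
  rcases mul_eq_zero.1 h6 with h8 | h8
  · rw [h8, map_zero, zero_add] at h3
    exact one_ne_zero h3.symm
  · rw [sub_eq_zero] at h8
    rw [h8, map_one] at h3
    have h9 : (1 : F) = 0 := by linear_combination h7 - h3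
    exact one_ne_zero h9

end rel

/-- If `g` conjugates `x` to its inverse, so does an odd power of `g` of `2`-power order; it lies in
each normal subgroup of odd index. -/
theorem exists_inverting {G : Type*} [Group G] [Finite G] (N : Subgroup G) [N.Normal] (hN : Odd N.index)
    {x : G} (h : IsConj x x⁻¹) : ∃ g ∈ N, g * x * g⁻¹ = x⁻¹ := by
  obtain ⟨g, hg⟩ := isConj_iff.1 h
  obtain ⟨k, hk⟩ := hN
  refine ⟨g ^ N.index, N.pow_index_mem g, ?_⟩
  have h0 : MulAut.conj g x = x⁻¹ := hg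
  have h1 : (MulAut.conj g ^ 2) x = x := by
    rw [pow_two, MulAut.mul_apply, h0, map_inv, h0, inv_inv]
  have h2 : ∀ n : ℕ, ((MulAut.conj g ^ 2) ^ n) x = x := by
    intro n
    induction n with
    | zero => rfl
    | succ n ih => rw [pow_succ, MulAut.mul_apply, h1, ih]
  have h3 : MulAut.conj (g ^ N.index) x = x⁻¹ := by
    rw [map_pow, hk, pow_add, pow_mul, pow_one, MulAut.mul_apply, h0, map_inv, h2]
  exact h3

/-- **The row of the Suzuki groups.** -/
theorem row_sz {K : Type v} [Group K] [Finite K] [IsSimpleGroup K] (hZ : Subgroup.center K = ⊥)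
    (h : Lie.IsoSuzuki K) : Row.{u, v} K := by
  have hp2 : Fact (Nat.Prime 2) := ⟨Nat.prime_two⟩
  have hvz : ∀ x : K, 2 ∣ orderOf x → VZ K x := fun x hx =>
    H690.LieGood.vz_of_hasSplit (H690.LieRow.hasSplit Nat.prime_two
      (Or.inr (Or.inr (Or.inr (Or.inr (Or.inr (Or.inr (Or.inr (Or.inr (Or.inl ⟨rfl, h⟩)))))))))) hx
  obtain ⟨F, i1, i2, m, hm, hF, ⟨e⟩⟩ := h
  let R : Cfsg.Agent.ThreePrime.SzRel.Rel K F := (ofGood (Cfsg.Agent.LieRecognition.SzMatrix.good hF)).map e.symm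
  refine ⟨⟨R.u 1 0, by rw [orderOf_x]; norm_num, hvz _ (by rw [orderOf_x]; norm_num)⟩, ?_⟩
  intro G _ _ f hf hn hc hst
  have h1 := index_mul_card_dvd f hf hn hc
  have h2 : Nat.card (Cfsg.Out ↥(Cfsg.Lie.Sz F (2 ^ (m + 1)))) = 2 * m + 1 := Cfsg.Agent.H70.SzOut.card_out hm hF
  have h3 : Nat.card (MulAut K) = Nat.card (MulAut ↥(Cfsg.Lie.Sz F (2 ^ (m + 1)))) :=
    Nat.card_congr (MulAut.congr e).toEquiv
  have hZ' : Subgroup.center ↥(Cfsg.Lie.Sz F (2 ^ (m + 1))) = ⊥ := by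
    rw [Subgroup.eq_bot_iff_forall] at hZ ⊢
    intro z hz
    have h4 : e.symm z ∈ Subgroup.center K := by
      rw [Subgroup.mem_center_iff] at hz ⊢
      intro g
      apply e.injective
      rw [map_mul, map_mul, e.apply_symm_apply]
      exact hz _
    have h5 := hZ _ h4
    rwa [map_eq_one_iff _ e.symm.injective] at h5
  rw [h3, ← Cfsg.Agent.H183.OutAbs.card_out_mul hZ', h2,
    ← Nat.card_congr e.toEquiv] at h1
  have h4 : f.range.index ∣ 2 * m + 1 := Nat.dvd_of_mul_dvd_mul_right Nat.card_pos h1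
  have hodd : Odd f.range.index := by
    obtain ⟨c, hc⟩ := h4
    have h5 : Odd (f.range.index * c) := by rw [← hc]; exact ⟨m, rfl⟩
    exact (Nat.odd_mul.1 h5).1
  have h6 : IsConj (f (R.u 1 0)) (f (R.u 1 0))⁻¹ := by
    rw [← map_inv]
    refine hst.isConj (d := 4) (van_of_vz f hf hn (hvz _ ?_)) (van_of_vz f hf hn (hvz _ ?_))
      (by norm_num) ?_ ?_ (orderOf_pos _)
    · rw [orderOf_x]; norm_num
    · rw [orderOf_inv, orderOf_x]; norm_num
    · rw [orderOf_injective f hf, orderOf_x]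
    · rw [orderOf_injective f hf, orderOf_inv, orderOf_x]
  obtain ⟨_, ⟨s, rfl⟩, hs⟩ := exists_inverting f.range hodd h6
  refine not_real R (isConj_iff.2 ⟨s, hf ?_⟩)
  rw [map_mul, map_mul, map_inv, hs, map_inv]

end Cfsg.Agent.H723.SzRow
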