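import Mathlib
import Cfsg.Prelude.Def_LieTypeChar
import Cfsg.Agent.H723.Sharp
import Cfsg.Agent.WeakTI.PslTwo
import Cfsg.Agent.S0813
import Cfsg.Agent.SmallSimple.PSLTwoPart
import Cfsg.Agent.SmallSimple.EvenOrder
import Cfsg.Agent.ClassicalGeometry.PSLTorus
import Cfsg.Agent.H714.RowTools

/-!
# The groups `PSL(2, q)`, `q ≥ 4` a power of two (helper723)

* `ctx` : `PSL(2, q)` satisfies `Ctx _ q`.
* `vz_of_free` : every element that normalises no Sylow 2-subgroup is a `VZ` element.
* `vz_of_dvd` : every nontrivial element of order dividing `q + 1` is a `VZ` element.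
* `exists_order` : there is an element of order `q + 1`.
* `row_psl2_even` : the row of S4943 for `q ≥ 8`.
-/

set_option autoImplicit false

namespace Cfsg.Agent.H723.L2Even

open Cfsg Cfsg.Agent.TwoFusion.ElemCentSylow MulAction Cfsg.Agent.H713
open scoped Pointwise

universe u v w

/-- In the groups of `Ctx` the elements normalising no Sylow 2-subgroup are `VZ` elements. -/
theorem vz_of_free {G : Type u} [Group G] [Finite G] {q : ℕ} (c : Ctx G q) {P Q : Sylow 2 G}
    (hPQ : P ≠ Q) {x : G} (hx : ∀ R : Sylow 2 G, x • R ≠ R) : VZ G x := by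
  obtain ⟨χ, hχ, h0⟩ := Sharp.exists_irr c hPQ
  refine ⟨⟨χ, hχ⟩, fun α => h0 _ fun R hR => ?_⟩
  -- pull `R` back
  have h1 : α x ∈ Subgroup.normalizer ((R : Subgroup G) : Set G) :=
    (Sylow.smul_eq_iff_mem_normalizer).1 hR
  have h2 : Nat.card ((R : Subgroup G).map α.symm.toMonoidHom) = 2 ^ (Nat.card G).factorization 2 := by
    rw [← Sylow.card_eq_multiplicity R]
    exact Subgroup.card_map_of_injective α.symm.injective
  let S : Sylow 2 G := Sylow.ofCard _ h2
  apply hx S
  rw [Sylow.smul_eq_iff_mem_normalizer, Subgroup.mem_set_normalizer_iff]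
  rw [Subgroup.mem_set_normalizer_iff] at h1
  intro y
  have h3 : ∀ z : G, z ∈ (S : Subgroup G) ↔ α z ∈ (R : Subgroup G) := by
    intro z
    change z ∈ (R : Subgroup G).map α.symm.toMonoidHom ↔ _
    constructor
    · rintro ⟨w, hw, rfl⟩
      change α (α.symm w) ∈ (R : Subgroup G)
      rw [MulEquiv.apply_symm_apply]
      exact hw
    · intro h
      exact ⟨α z, h, by
        change α.symm (α z) = z
        rw [MulEquiv.symm_apply_apply]⟩
  change y ∈ (S : Subgroup G) ↔ x * y * x⁻¹ ∈ (S : Subgroup G)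
  rw [h3, h3]
  have h4 := h1 (α y)
  rw [← map_inv, ← map_mul, ← map_mul] at h4
  exact h4

section psl

variable {F : Type v} [Field F] [Fintype F] [CharP F 2] {S : Type u} [Group S] [Finite S]
  (e : S ≃* Matrix.ProjectiveSpecialLinearGroup (Fin 2) F)

omit [CharP F 2] in
include e in
omit [Finite S] in
theorem simple (h4 : 4 ≤ Fintype.card F) : IsSimpleGroup S := by
  have : IsSimpleGroup (Matrix.ProjectiveSpecialLinearGroup (Fin 2) F) :=
    Matrix.ProjectiveSpecialLinearGroup.rank_two_simple (by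
      rw [Nat.card_eq_fintype_card]
      omega)
  have := e.toEquiv.nontrivial
  exact IsSimpleGroup.isSimpleGroup_of_surjective e.symm.toMonoidHom e.symm.surjective

theorem card_even : Even (Fintype.card F) := by
  have h3 := (CharP.cast_eq_zero_iff F 2 (Fintype.card F)).1
  rw [even_iff_two_dvd]
  apply h3
  rw [Nat.cast_card_eq_zero]

theorem exists_pow : ∃ f : ℕ, Fintype.card F = 2 ^ f := by
  obtain ⟨n, h, h1⟩ := FiniteField.card F 2
  exact ⟨n, h1⟩

include e in
omit [Finite S] in
theorem card_psl : Nat.card S = Fintype.card F * (Fintype.card F ^ 2 - 1) := by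
  rw [Nat.card_congr e.toEquiv]
  exact SmallSimple.PSLTwoPart.card_psl_two_even card_even

/-- A simple group of order divisible by two different primes: a Sylow subgroup is not normal. -/
theorem not_normal {G : Type u} [Group G] [Finite G] [IsSimpleGroup G] {p r : ℕ} (hp : p.Prime)
    (hr : r.Prime) (hpr : p ≠ r) (hpG : p ∣ Nat.card G) (hrG : r ∣ Nat.card G) (T : Sylow p G) :
    ¬ (T : Subgroup G).Normal := by
  have : Fact p.Prime := ⟨hp⟩
  intro hn
  rcases hn.eq_bot_or_eq_top with h | h
  · have h3 := T.dvd_card_of_dvd_card hpG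
    rw [h, Subgroup.card_bot] at h3
    exact hp.one_lt.ne' (Nat.dvd_one.1 h3)
  · obtain ⟨k, hk⟩ := T.isPGroup'.exists_card_eq
    rw [h, Subgroup.card_top] at hk
    rw [hk] at hrG
    exact hpr ((Nat.prime_dvd_prime_iff_eq hr hp).1 (hr.dvd_of_dvd_pow hrG)).symm

omit [Finite S] [Field F] [CharP F 2] in
theorem two_le_of_four (h4 : 4 ≤ Fintype.card F) {f : ℕ} (hf : Fintype.card F = 2 ^ f) : 2 ≤ f := by
  by_contra hcon
  have : f = 0 ∨ f = 1 := by omega
  rcases this with rfl | rfl <;> simp at hf <;> omega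

include e in
omit [Finite S] in
theorem two_dvd (h4 : 4 ≤ Fintype.card F) : 2 ∣ Nat.card S := by
  obtain ⟨f, hf⟩ := exists_pow (F := F)
  have hf2 := two_le_of_four h4 hf
  rw [card_psl e, hf]
  exact Dvd.dvd.mul_right (dvd_pow_self 2 (by omega)) _

theorem factorization_eq {f : ℕ} (hf : 2 ≤ f) : (2 ^ f * ((2 ^ f) ^ 2 - 1)).factorization 2 = f := by
  have h1 : ¬ 2 ∣ (2 ^ f) ^ 2 - 1 := by
    have : (2 ^ f) ^ 2 = 2 * (2 ^ (2 * f - 1)) := by
      rw [← pow_mul, ← pow_succ']
      congr 1
      omega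
    have h0 : 0 < 2 ^ (2 * f - 1) := by positivity
    omega
  have h2 : (2 ^ f) ^ 2 - 1 ≠ 0 := by
    intro h
    rw [h] at h1
    exact h1 (dvd_zero 2)
  rw [Nat.factorization_mul (by positivity) h2, Nat.Prime.factorization_pow Nat.prime_two]
  simp [Nat.factorization_eq_zero_of_not_dvd h1]

include e in
/-- `PSL(2, q)`, `q` even. -/
theorem ctx (h4 : 4 ≤ Fintype.card F) : Ctx S (Fintype.card F) ∧ ∃ P Q : Sylow 2 S, P ≠ Q := by
  classical
  have hs := simple e h4
  have hcard := card_psl e
  obtain ⟨f, hf⟩ := exists_pow (F := F)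
  have hf2 := two_le_of_four h4 hf
  have h2 : 2 ∣ Nat.card S := two_dvd e h4
  have hyp : Hyp S := by
    intro t ht
    have ht1 : t ≠ 1 := by
      rintro rfl
      rw [orderOf_one] at ht
      omega
    have htt : t * t = 1 := by rw [← pow_two, ← ht, pow_orderOf_eq_one]
    have h3 : ∀ a ∈ Subgroup.centralizer ({t} : Set S), a * a = 1 := by
      intro a ha
      rw [Subgroup.mem_centralizer_singleton_iff] at ha
      exact WeakTI.PslTwo.cent e htt ht1 ha.symm
    refine ⟨⟨⟨fun a b => ?_⟩⟩, fun a ha => by rw [pow_two]; exact h3 a ha⟩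
    apply Subtype.ext
    change (a : S) * b = b * a
    have e1 := h3 _ a.2
    have e2 := h3 _ b.2
    have e3 := h3 _ (mul_mem a.2 b.2)
    have i1 := inv_eq_of_mul_eq_one_right e1
    have i2 := inv_eq_of_mul_eq_one_right e2
    have i3 := inv_eq_of_mul_eq_one_right e3
    rw [← i3, mul_inv_rev, i1, i2]
  have : Fact (Nat.Prime 2) := ⟨Nat.prime_two⟩
  let T : Sylow 2 S := default
  have h3 : 3 ∣ Nat.card S := by
    rw [hcard, hf]
    have h5 : (2 ^ f) ^ 2 - 1 = 4 ^ f - 1 ^ f := by
      rw [← pow_mul, mul_comm, pow_mul, one_pow]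
      norm_num
    rw [h5]
    exact Dvd.dvd.mul_left (by
      have := Nat.sub_dvd_pow_sub_pow 4 1 f
      simpa using this) _
  have hnn : ¬ (T : Subgroup S).Normal := not_normal Nat.prime_two Nat.prime_three (by norm_num) h2 h3 T
  have hna : ¬ IsMulCommutative S := by
    intro hc
    exact hnn (Subgroup.normal_of_isMulCommutative _)
  have c := ctx_of T (SmallSimple.EvenOrder.not_isCyclic_sylow_two hna h2 T) hnn hyp
  have hq : Nat.card T = Fintype.card F := by
    rw [Sylow.card_eq_multiplicity, hcard, hf, factorization_eq hf2]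
  rw [hq] at c
  refine ⟨c, T, ?_⟩
  by_contra hcon
  push Not at hcon
  apply hnn
  rw [← Subgroup.normalizer_eq_top_iff, eq_top_iff]
  intro g _
  exact (Sylow.smul_eq_iff_mem_normalizer).1 (hcon (g • T)).symm

include e in
theorem not_comm (h4 : 4 ≤ Fintype.card F) : ¬ IsMulCommutative S := by
  intro hc
  obtain ⟨c, P, Q, hPQ⟩ := ctx e h4
  apply hPQ
  have hn : (P : Subgroup S).Normal := Subgroup.normal_of_isMulCommutative _
  obtain ⟨g, hg⟩ := MulAction.exists_smul_eq S P Q
  rw [← hg]
  exact ((Sylow.smul_eq_iff_mem_normalizer).2 (by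
    change g ∈ Subgroup.normalizer ((P : Subgroup S) : Set S)
    rw [Subgroup.normalizer_eq_top_iff.2 hn]
    exact Subgroup.mem_top g)).symm

/-- numbers `q + 1` and `q (q - 1)`, `q` even, are coprime -/
theorem coprime_arith {q : ℕ} (h : Even q) (h4 : 4 ≤ q) : Nat.Coprime (q + 1) (q * (q - 1)) := by
  apply Nat.Coprime.mul_right
  · simp
  · obtain ⟨r, hr⟩ := h
    have h1 : q + 1 = (q - 1) + 2 := by omega
    rw [h1, Nat.coprime_self_add_left]
    rw [Nat.coprime_two_left]
    exact ⟨r - 1, by omega⟩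

include e in
/-- Nontrivial elements of order dividing `q + 1` normalise no Sylow 2-subgroup. -/
theorem free_of_dvd (h4 : 4 ≤ Fintype.card F) {x : S} (hx1 : x ≠ 1)
    (hx : orderOf x ∣ Fintype.card F + 1) (R : Sylow 2 S) : x • R ≠ R := by
  intro hR
  obtain ⟨c, -⟩ := ctx e h4
  have h1 : orderOf x ∣ Fintype.card F * (Fintype.card F - 1) := by
    rw [← c.stab R]
    have h2 : orderOf (⟨x, hR⟩ : stabilizer S R) = orderOf x := Subgroup.orderOf_mk x hR
    rw [← h2]
    exact orderOf_dvd_natCard _
  have h3 := Nat.eq_one_of_dvd_coprimes (coprime_arith card_even h4) hx h1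
  exact hx1 (orderOf_eq_one_iff.1 h3)

include e in
/-- Nontrivial elements of order dividing `q + 1` are `VZ` elements. -/
theorem vz_of_dvd (h4 : 4 ≤ Fintype.card F) {x : S} (hx1 : x ≠ 1)
    (hx : orderOf x ∣ Fintype.card F + 1) : VZ S x := by
  obtain ⟨c, P, Q, hPQ⟩ := ctx e h4
  exact vz_of_free c hPQ (free_of_dvd e h4 hx1 hx)

include e in
omit [Finite S] in
/-- There is an element of order `q + 1`. -/
theorem exists_order (h4 : 4 ≤ Fintype.card F) : ∃ x : S, orderOf x = Fintype.card F + 1 := by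
  obtain ⟨C, H, -, -, hcyc, hcard, -⟩ := ClassicalGeometry.PSLTorus.exists_psl_torus F
  obtain ⟨⟨y, hy⟩, hg⟩ := hcyc.exists_generator
  have h1 : orderOf (⟨y, hy⟩ : C) = Nat.card C := orderOf_eq_card_of_forall_mem_zpowers hg
  have h2 : Nat.gcd 2 (Fintype.card F - 1) = 1 := by
    apply Nat.coprime_two_left.2
    obtain ⟨r, hr⟩ := card_even (F := F)
    exact ⟨r - 1, by omega⟩
  rw [h2, Nat.div_one] at hcard
  rw [Subgroup.orderOf_mk, hcard] at h1
  exact ⟨e.symm y, by rw [MulEquiv.orderOf_eq, h1]⟩

/-- The size of the class of `x` under automorphisms. -/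
theorem card_aut_class_mul {G : Type u} [Group G] [Finite G] (hc : Subgroup.center G = ⊥) (x : G) :
    Nat.card {y : G // ∃ α : MulAut G, α x = y} * orderOf x ≤ Nat.card (MulAut G) := by
  have hfin : Finite (MulAut G) := inferInstance
  have h1 : Nat.card {y : G // ∃ α : MulAut G, α x = y} = (stabilizer (MulAut G) x).index := by
    rw [← Nat.card_congr (Equiv.refl {y : G // ∃ α : MulAut G, α x = y})]
    have h2 : (stabilizer (MulAut G) x).index = Nat.card (orbit (MulAut G) x) :=
      index_stabilizer (MulAut G) x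
    rw [h2]
    exact Nat.card_congr (Equiv.refl _)
  have h3 : orderOf x ≤ Nat.card (stabilizer (MulAut G) x) := by
    have h4 : Function.Injective (MulAut.conj : G →* MulAut G) := by
      rw [← MonoidHom.ker_eq_bot_iff, eq_bot_iff, ← hc]
      intro g hg
      rw [MonoidHom.mem_ker] at hg
      rw [Subgroup.mem_center_iff]
      intro y
      have := congrArg (fun α : MulAut G => α y) hg
      simp only [MulAut.conj_apply, MulAut.one_apply] at this
      rw [mul_inv_eq_iff_eq_mul] at this
      exact this.symm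
    have h5 : (Subgroup.zpowers x).map MulAut.conj ≤ stabilizer (MulAut G) x := by
      rintro _ ⟨y, hy, rfl⟩
      obtain ⟨k, rfl⟩ := Subgroup.mem_zpowers_iff.1 hy
      rw [mem_stabilizer_iff]
      change (x ^ k) * x * (x ^ k)⁻¹ = x
      group
    rw [← Nat.card_zpowers, ← Subgroup.card_map_of_injective h4]
    exact Nat.card_le_card_of_injective _ (Subgroup.inclusion_injective h5)
  rw [h1, mul_comm, ← Subgroup.card_mul_index (stabilizer (MulAut G) x)]
  exact Nat.mul_le_mul_right _ h3

end psl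

/-- A group acting without fixed points on a finite set. -/
theorem card_dvd_of_free {H α : Type*} [Group H] [MulAction H α] [Finite α]
    (h : ∀ (g : H) (a : α), g • a = a → g = 1) : Nat.card H ∣ Nat.card α := by
  classical
  have : Fintype (orbitRel.Quotient H α) := Fintype.ofFinite _
  rw [Nat.card_congr (selfEquivSigmaOrbits' H α), Nat.card_sigma]
  apply Finset.dvd_sum
  intro ω _
  obtain ⟨b, rfl⟩ := Quotient.exists_rep ω
  have h1 : Nat.card (orbit H b) = Nat.card H := by
    have h0 : Nat.card (orbit H b) = (stabilizer H b).index := (index_stabilizer H b).symm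
    rw [h0]
    have h2 : stabilizer H b = ⊥ := by
      rw [eq_bot_iff]
      intro g hg
      exact h g b hg
    rw [h2, Subgroup.index_bot]
  rw [← h1]
  have h3 : orbitRel.Quotient.orbit (Quotient.mk (orbitRel H α) b) = orbit H b := rfl
  rw [h3]

/-- The elements that normalise no Sylow 2-subgroup have order dividing `q + 1`. -/
theorem dvd_of_free {G : Type u} [Group G] [Finite G] {q : ℕ} (c : Ctx G q) {P Q : Sylow 2 G}
    (hPQ : P ≠ Q) {g : G} (hg : ∀ R : Sylow 2 G, g • R ≠ R) : orderOf g ∣ q + 1 := by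
  classical
  -- `g` has odd order
  have hodd : ¬ 2 ∣ orderOf g := by
    intro h2
    obtain ⟨m, hm⟩ := h2
    have hpos : 0 < orderOf g := orderOf_pos g
    have hm0 : 0 < m := by omega
    have ht : orderOf (g ^ m) = 2 := by
      rw [orderOf_pow, hm, Nat.gcd_eq_right (Dvd.intro_left 2 rfl), Nat.mul_div_cancel _ hm0]
    have h3 : g * g = 1 := c.h.sq ht (by rw [← pow_succ, ← pow_succ'])
    have hg1 : g ≠ 1 := by
      rintro rfl
      exact hg P (one_smul _ P)
    have h4 : orderOf g = 2 := orderOf_eq_prime (by rw [pow_two]; exact h3) hg1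
    obtain ⟨R, hR⟩ := exists_sylow_mem h4
    exact hg R (mem_stab_of_mem hR)
  rw [← Sharp.card_sylow c hPQ, ← Nat.card_zpowers]
  apply card_dvd_of_free
  rintro ⟨h, hh⟩ R hR
  change h • R = R at hR
  apply Subtype.ext
  change h = 1
  by_contra h1
  obtain ⟨k, rfl⟩ := Subgroup.mem_zpowers_iff.1 hh
  have hcomm : ∀ S : Sylow 2 G, g ^ k • S = S → g ^ k • (g • S) = g • S := by
    intro S hS
    rw [← mul_smul, ← zpow_add_one, add_comm, zpow_add, zpow_one, mul_smul, hS]
  have e1 := hcomm R hR
  have e2 := hcomm _ e1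
  have n1 : R ≠ g • R := (hg R).symm
  have n2 : g • R ≠ g • g • R := (hg _).symm
  have n3 : R = g • g • R := by
    by_contra h3
    exact h1 (c.eq_one_of_fix_three n1 h3 n2 hR e1 e2)
  -- `g ^ 2` fixes `R`, hence `g`
  have h4 : g ^ 2 ∈ stabilizer G R := by
    rw [mem_stabilizer_iff, pow_two, mul_smul]
    exact n3.symm
  have hco : Nat.Coprime (orderOf g) 2 := by
    rw [Nat.coprime_two_right, ← Nat.not_even_iff_odd, even_iff_two_dvd]
    exact hodd
  obtain ⟨m, hm⟩ := exists_pow_eq_self_of_coprime (x := g) (n := 2) hco.symm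
  have h5 : (g ^ 2) ^ m ∈ stabilizer G R := pow_mem h4 m
  rw [hm] at h5
  exact hg R h5

section row

variable {F : Type v} [Field F] [Fintype F] [CharP F 2] {S : Type u} [Group S] [Finite S]
  (e : S ≃* Matrix.ProjectiveSpecialLinearGroup (Fin 2) F)

include e in
/-- Not all elements of order `q + 1` are conjugate in the automorphism group, `q + 1` prime, `q ≥ 8`. -/
theorem exists_not_aut (h8 : 8 ≤ Fintype.card F) (hp : (Fintype.card F + 1).Prime) :
    ∃ x y : S, orderOf x = Fintype.card F + 1 ∧ orderOf y = Fintype.card F + 1 ∧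
      ∀ α : MulAut S, α x ≠ y := by
  classical
  have h4 : 4 ≤ Fintype.card F := by omega
  have hs := simple e h4
  obtain ⟨c, P, Q, hPQ⟩ := ctx e h4
  obtain ⟨f, hf⟩ := exists_pow (F := F)
  obtain ⟨x, hx⟩ := exists_order e h4
  by_contra hcon
  push Not at hcon
  have hfree := Sharp.two_mul_card_free c hPQ
  have hcenter : Subgroup.center S = ⊥ := by
    rcases (inferInstance : (Subgroup.center S).Normal).eq_bot_or_eq_top with h | h
    · exact h
    · exfalso
      apply not_comm e h4
      refine ⟨⟨fun a b => ?_⟩⟩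
      have ha : a ∈ Subgroup.center S := by rw [h]; exact Subgroup.mem_top a
      exact (Subgroup.mem_center_iff.1 ha b).symm
  have h1 := card_aut_class_mul hcenter x
  have h2 : Nat.card {g : S // ∀ R : Sylow 2 S, g • R ≠ R} ≤
      Nat.card {y : S // ∃ α : MulAut S, α x = y} := by
    apply Nat.card_le_card_of_injective (fun g : {g : S // ∀ R : Sylow 2 S, g • R ≠ R} =>
      (⟨g.1, by
        obtain ⟨g, hg⟩ := g
        have hg1 : orderOf g ∣ Fintype.card F + 1 := dvd_of_free c hPQ hg
        apply hcon x g hx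
        rcases (Nat.dvd_prime hp).1 hg1 with h | h
        · exfalso
          rw [orderOf_eq_one_iff] at h
          subst h
          exact hg P (one_smul _ P)
        · exact h⟩ : {y : S // ∃ α : MulAut S, α x = y}))
    intro a b hab
    exact Subtype.ext (congrArg (fun y : {y : S // ∃ α : MulAut S, α x = y} => (y : S)) hab)
  have hF2 : 2 ≤ f := two_le_of_four h4 hf
  have h3 : Nat.card (MulAut S) = f * (Fintype.card F * (Fintype.card F ^ 2 - 1)) := by
    have h5 : Nat.card (MulAut S) =
        Nat.card (MulAut (Matrix.ProjectiveSpecialLinearGroup (Fin 2) F)) :=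
      Nat.card_congr (MulAut.congr e).toEquiv
    rw [h5, S0813.result 2 f (by omega) hf 2 le_rfl (fun _ => by rw [← hf]; exact h4),
      if_pos rfl, one_mul, ClassicalGeometry.PSL2Basic.card_PGL2]
  rw [hx, h3] at h1
  set q := Fintype.card F with hq
  have h6 : q ^ 2 - 1 = (q + 1) * (q - 1) := by
    rw [← one_pow 2, Nat.sq_sub_sq, one_pow]
  have h7 : 2 * Nat.card {g : S // ∀ R : Sylow 2 S, g • R ≠ R} * (q + 1) ≤
      2 * (f * (q * ((q + 1) * (q - 1)))) := by
    rw [← h6, mul_assoc]
    exact Nat.mul_le_mul_left 2 ((Nat.mul_le_mul_right _ h2).trans h1)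
  rw [hfree] at h7
  have h8' : (q * (q - 1) * (q + 1)) * q ≤ (q * (q - 1) * (q + 1)) * (2 * f) := by
    calc (q * (q - 1) * (q + 1)) * q = q * (q * (q - 1)) * (q + 1) := by ring
      _ ≤ 2 * (f * (q * ((q + 1) * (q - 1)))) := h7
      _ = (q * (q - 1) * (q + 1)) * (2 * f) := by ring
  have hpos : 0 < q * (q - 1) * (q + 1) := by
    apply Nat.mul_pos (Nat.mul_pos (by omega) (by omega)) (by omega)
  have h9 : q ≤ 2 * f := Nat.le_of_mul_le_mul_left h8' hpos
  have h10 : 3 ≤ f := by
    by_contra hcon'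
    have : f = 2 := by omega
    subst this
    omega
  have h11 : 2 * f < 2 ^ f := by
    clear * - h10
    induction f, h10 using Nat.le_induction with
    | base => norm_num
    | succ n hn ih => rw [pow_succ]; omega
  omega

include e in
/-- **The row of `PSL(2, q)`**, `q ≥ 8` even. -/
theorem row_psl2_even (h8 : 8 ≤ Fintype.card F) : Row.{w, u} S := by
  have h4 : 4 ≤ Fintype.card F := by omega
  by_cases hp : (Fintype.card F + 1).Prime
  · obtain ⟨x, y, hx, hy, hxy⟩ := exists_not_aut e h8 hp
    have h1 : ∀ z : S, orderOf z = Fintype.card F + 1 → z ≠ 1 := by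
      rintro z hz rfl
      rw [orderOf_one] at hz
      omega
    exact H714.RowTools.row_of_pair (vz_of_dvd e h4 (h1 x hx) (by rw [hx]))
      (vz_of_dvd e h4 (h1 y hy) (by rw [hy])) (d := Fintype.card F + 1) (by omega) (by rw [hx])
      (by rw [hy]) hxy
  · obtain ⟨x, hx⟩ := exists_order e h4
    obtain ⟨m, hm, hm1, hm2⟩ := Nat.exists_dvd_of_not_prime2 (by omega) hp
    have hmpos : 0 < m := by omega
    obtain ⟨d, hd⟩ := hm
    have hmx : orderOf (x ^ m) = d := by
      rw [orderOf_pow, hx, hd, Nat.gcd_eq_right (Dvd.intro _ rfl), Nat.mul_div_cancel_left _ hmpos]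
    have hd1 : d ≠ 1 := by
      rintro rfl
      omega
    have hdodd : Odd d := by
      have h1 : Odd (Fintype.card F + 1) := (card_even (F := F)).add_one
      rw [hd] at h1
      exact (Nat.odd_mul.1 h1).2
    have hd2 : 2 < d := by
      obtain ⟨r, hr⟩ := hdodd
      omega
    have hx1 : x ≠ 1 := by
      rintro rfl
      rw [orderOf_one] at hx
      omega
    have hy1 : x ^ m ≠ 1 := by
      intro h
      rw [h, orderOf_one] at hmx
      omega
    refine H714.RowTools.row_of_orders (x := x) (y := x ^ m) (vz_of_dvd e h4 hx1 (by rw [hx]))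
      (vz_of_dvd e h4 hy1 (by rw [hmx, hd]; exact Dvd.intro_left _ rfl)) (d := d) hd2
      (by rw [hx, hd]; exact Dvd.intro_left _ rfl) (by rw [hmx]) ?_
    rw [hmx, hx, hd]
    intro h
    have : 1 * d = m * d := by rw [one_mul]; exact h.symm
    have := Nat.eq_of_mul_eq_mul_right (by omega) this
    omega

end row

end Cfsg.Agent.H723.L2Even
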