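import Mathlib
import Cfsg.Agent.H723.L3Even
import Cfsg.Agent.S0813
import Cfsg.Agent.S0265
import Cfsg.Agent.S0249
import Cfsg.Agent.H690.LieRow
import Cfsg.Agent.H690.LieGood

/-!
# The group `PSL(3, 4)` (helper723)

* `hasDZ_seven` : a character of `7`-defect zero.
* `row_l34` : the row of S4943.
-/

set_option autoImplicit false

namespace Cfsg.Agent.H723.L34

open Cfsg MulAction Cfsg.Agent.H713 Cfsg.Agent.H665.NoPQ Matrix Cfsg.Agent.H723.L3Even
open scoped Pointwise LinearAlgebra.Projectivization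

universe u v w

section fix

variable {F : Type v} [Field F]

theorem card_psl [Fintype F] (h4 : Fintype.card F = 4) :
    Nat.card (ProjectiveSpecialLinearGroup (Fin 3) F) = 20160 := by
  have h1 := card_mul (F := F)
  rw [h4] at h1
  norm_num at h1
  omega

theorem card_sl [Fintype F] (h4 : Fintype.card F = 4) :
    Nat.card (Matrix.SpecialLinearGroup (Fin 3) F) = 60480 := by
  have h8 := Cfsg.Agent.ClassicalGeometry.PSL2Basic.card_SL_mul (Fin 3) F
  rw [Matrix.card_GL_field, Fin.prod_univ_three, h4] at h8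
  simp at h8
  omega

/-- If `M` has an eigenvector, its image fixes a point. -/
theorem exists_fixed (M : SpecialLinearGroup (Fin 3) F) {c : F} {v : Fin 3 → F} (hv : v ≠ 0)
    (h : M.1 *ᵥ v = c • v) :
    (QuotientGroup.mk M : ProjectiveSpecialLinearGroup (Fin 3) F) • Projectivization.mk F v hv =
      Projectivization.mk F v hv := by
  have hc : c ≠ 0 := by
    rintro rfl
    rw [zero_smul] at h
    apply hv
    have h1 : (M⁻¹ : SpecialLinearGroup (Fin 3) F).1 *ᵥ (M.1 *ᵥ v) = 0 := by rw [h, mulVec_zero]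
    have h2 : (M⁻¹ : SpecialLinearGroup (Fin 3) F).1 * M.1 = 1 := by
      have := congrArg Subtype.val (inv_mul_cancel M)
      exact this
    rw [mulVec_mulVec, h2, one_mulVec] at h1
    exact h1
  change M • Projectivization.mk F v hv = Projectivization.mk F v hv
  rw [Projectivization.smul_mk]
  rw [Projectivization.mk_eq_mk_iff]
  refine ⟨Units.mk0 c hc, ?_⟩
  change c • v = M.1 *ᵥ v
  exact h.symm

theorem not_seven [Fintype F] (h4 : Fintype.card F = 4) {x : ProjectiveSpecialLinearGroup (Fin 3) F}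
    (hx : orderOf x = 7) (P : ℙ F (Fin 3 → F)) : x • P ≠ P := by
  intro h
  have h2 := two_pre (F := F) (n := 3)
  have htr : IsPretransitive (ProjectiveSpecialLinearGroup (Fin 3) F) (ℙ F (Fin 3 → F)) :=
    MulAction.isPretransitive_of_is_two_pretransitive
  have h5 := (stabilizer (ProjectiveSpecialLinearGroup (Fin 3) F) P).index_mul_card
  rw [MulAction.index_stabilizer_of_transitive, card_proj, h4, card_psl h4] at h5
  have h6 : orderOf x ∣ Nat.card (stabilizer (ProjectiveSpecialLinearGroup (Fin 3) F) P) := by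
    rw [← Subgroup.orderOf_mk x (show x ∈ stabilizer _ P from h)]
    exact orderOf_dvd_natCard _
  rw [hx] at h6
  omega

end fix

section dz

variable {F : Type v} [Field F]

theorem det_sub (M : Matrix (Fin 3) (Fin 3) F) (a : F) :
    (M - a • (1 : Matrix (Fin 3) (Fin 3) F)).det = M.det - a * M.adjugate.trace + a ^ 2 * M.trace - a ^ 3 := by
  rw [det_fin_three, det_fin_three, trace_fin_three, trace_fin_three, adjugate_fin_three]
  simp [Matrix.sub_apply, Matrix.smul_apply]
  ring

/-- equality in `PSL` -/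
theorem mk_eq {M N : SpecialLinearGroup (Fin 3) F}
    (h : (QuotientGroup.mk M : ProjectiveSpecialLinearGroup (Fin 3) F) = QuotientGroup.mk N) :
    ∃ r : F, r ^ 3 = 1 ∧ M.1 = r • N.1 := by
  rw [eq_comm, QuotientGroup.eq] at h
  obtain ⟨r, h1, h2⟩ := (Matrix.SpecialLinearGroup.mem_center_iff).1 h
  refine ⟨r, by simpa using h1, ?_⟩
  have h3 : N.1 * (N⁻¹ * M : SpecialLinearGroup (Fin 3) F).1 = M.1 := by
    have := congrArg Subtype.val (mul_inv_cancel_left N M)
    exact this
  rw [← h3, ← h2]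
  simp [Matrix.scalar_apply, Matrix.smul_eq_mul_diagonal]

/-- A real element of `PSL(3, F)` fixes a point. -/
theorem exists_fixed_of_real {x : ProjectiveSpecialLinearGroup (Fin 3) F} (hx : IsConj x x⁻¹) :
    ∃ P : ℙ F (Fin 3 → F), x • P = P := by
  obtain ⟨g, hg⟩ := isConj_iff.1 hx
  obtain ⟨M, rfl⟩ := QuotientGroup.mk_surjective x
  obtain ⟨N, rfl⟩ := QuotientGroup.mk_surjective g
  rw [← QuotientGroup.mk_inv, ← QuotientGroup.mk_inv, ← QuotientGroup.mk_mul, ← QuotientGroup.mk_mul] at hg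
  obtain ⟨r, hr, h⟩ := mk_eq hg
  have htr : M.1.trace = r * (M⁻¹ : SpecialLinearGroup (Fin 3) F).1.trace := by
    have h1 := congrArg Matrix.trace h
    rw [trace_smul, smul_eq_mul] at h1
    rw [← h1]
    have h2 : (N * M * N⁻¹ : SpecialLinearGroup (Fin 3) F).1 = N.1 * M.1 * (N⁻¹ : SpecialLinearGroup (Fin 3) F).1 := rfl
    have h3 : (N⁻¹ : SpecialLinearGroup (Fin 3) F).1 * N.1 = 1 := congrArg Subtype.val (inv_mul_cancel N)
    rw [h2, trace_mul_comm, ← Matrix.mul_assoc, h3, Matrix.one_mul]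
  have hr0 : r ≠ 0 := by
    rintro rfl
    norm_num at hr
  have hadj : (M⁻¹ : SpecialLinearGroup (Fin 3) F).1 = M.1.adjugate := rfl
  rw [hadj] at htr
  have hdet : (M.1 - r⁻¹ • (1 : Matrix (Fin 3) (Fin 3) F)).det = 0 := by
    rw [det_sub, M.2, htr]
    have h1 : r⁻¹ * r = 1 := inv_mul_cancel₀ hr0
    have h2 : r⁻¹ ^ 3 = 1 := by rw [inv_pow, hr, inv_one]
    linear_combination (r⁻¹ * M.1.adjugate.trace) * h1 - h2
  obtain ⟨v, hv, h1⟩ := exists_mulVec_eq_zero_iff.2 hdet
  refine ⟨Projectivization.mk F v hv, exists_fixed M (c := r⁻¹) hv ?_⟩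
  rw [sub_mulVec, smul_mulVec, one_mulVec, sub_eq_zero] at h1
  exact h1

/-- the unipotent matrix `1 + e₁₂ + b e₂₃` -/
def U (b : F) : SpecialLinearGroup (Fin 3) F :=
  ⟨!![1, 1, 0; 0, 1, b; 0, 0, 1], by simp [det_fin_three]⟩

theorem coe_U (b : F) : (U b).1 = !![1, 1, 0; 0, 1, b; 0, 0, 1] := rfl

theorem trace_U (b : F) : (U b).1.trace = 3 := by
  rw [coe_U, trace_fin_three]
  simp
  norm_num

/-- Conjugacy of the images of the `U b`. -/
theorem of_conj (h3 : (3 : F) ≠ 0) {a b : F} {N : SpecialLinearGroup (Fin 3) F}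
    (h : (QuotientGroup.mk (N * U a * N⁻¹) : ProjectiveSpecialLinearGroup (Fin 3) F) =
      QuotientGroup.mk (U b)) : N.1 * (U a).1 = (U b).1 * N.1 := by
  obtain ⟨r, hr, h⟩ := mk_eq h
  have h4 : (N⁻¹ : SpecialLinearGroup (Fin 3) F).1 * N.1 = 1 := congrArg Subtype.val (inv_mul_cancel N)
  have h2 : (N * U a * N⁻¹ : SpecialLinearGroup (Fin 3) F).1 =
    N.1 * (U a).1 * (N⁻¹ : SpecialLinearGroup (Fin 3) F).1 := rfl
  have htr : (U a).1.trace = r * (U b).1.trace := by
    have h1 := congrArg Matrix.trace h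
    rw [trace_smul, smul_eq_mul] at h1
    rw [← h1]
    rw [h2, trace_mul_comm, ← Matrix.mul_assoc, h4, Matrix.one_mul]
  rw [trace_U, trace_U] at htr
  have hr1 : r = 1 := by
    apply mul_right_cancel₀ h3
    rw [one_mul]
    exact htr.symm
  rw [h2, hr1, one_smul] at h
  rw [← h, Matrix.mul_assoc, h4, Matrix.mul_one]

/-- matrix entries -/
theorem entries {a b : F} {N : SpecialLinearGroup (Fin 3) F} (h : N.1 * (U a).1 = (U b).1 * N.1) :
    N.1 1 0 = 0 ∧ N.1 2 0 = 0 ∧ N.1 0 0 = N.1 1 1 ∧ b * N.1 2 1 = 0 ∧ a * N.1 1 1 = b * N.1 2 2 := by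
  rw [coe_U, coe_U] at h
  have h00 := congrFun (congrFun h 0) 0
  have h01 := congrFun (congrFun h 0) 1
  have h10 := congrFun (congrFun h 1) 0
  have h11 := congrFun (congrFun h 1) 1
  have h12 := congrFun (congrFun h 1) 2
  have h21 := congrFun (congrFun h 2) 1
  simp [Matrix.mul_apply, Fin.sum_univ_three] at h00 h01 h10 h11 h12 h21
  refine ⟨h00, h21, ?_, ?_, ?_⟩
  · linear_combination h01
  · linear_combination h00 - h11
  · linear_combination h12

theorem not_conj {a b : F} (hb : b ≠ 0) (h3 : (3 : F) ≠ 0) (hu : ∀ t : F, t ≠ 0 → t ^ 3 = 1)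
    (hab : a ≠ b) :
    ¬ IsConj (QuotientGroup.mk (U a) : ProjectiveSpecialLinearGroup (Fin 3) F) (QuotientGroup.mk (U b)) := by
  intro h
  obtain ⟨g, hg⟩ := isConj_iff.1 h
  obtain ⟨N, rfl⟩ := QuotientGroup.mk_surjective g
  rw [← QuotientGroup.mk_inv, ← QuotientGroup.mk_mul, ← QuotientGroup.mk_mul] at hg
  obtain ⟨h10, h20, h0, h1, h2⟩ := entries (of_conj h3 hg)
  have h21 : N.1 2 1 = 0 := by
    rcases mul_eq_zero.1 h1 with h4 | h4
    · exact absurd h4 hb
    · exact h4
  have hdet := N.2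
  rw [det_fin_three, h10, h20, h21, h0] at hdet
  have h4 : N.1 1 1 ^ 3 * a = b := by
    have h5 : N.1 1 1 * N.1 1 1 * N.1 2 2 = 1 := by linear_combination hdet
    calc N.1 1 1 ^ 3 * a = (N.1 1 1 * N.1 1 1) * (a * N.1 1 1) := by ring
      _ = (N.1 1 1 * N.1 1 1) * (b * N.1 2 2) := by rw [h2]
      _ = (N.1 1 1 * N.1 1 1 * N.1 2 2) * b := by ring
      _ = b := by rw [h5, one_mul]
  have h5 : N.1 1 1 ≠ 0 := by
    intro h6
    rw [h6] at h4
    apply hb
    rw [← h4]
    ring
  rw [hu _ h5, one_mul] at h4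
  exact hab h4

theorem three_ne [CharP F 2] : (3 : F) ≠ 0 := by
  have h2 : (2 : F) = 0 := CharTwo.two_eq_zero
  have : (3 : F) = 2 + 1 := by norm_num
  rw [this, h2, zero_add]
  exact one_ne_zero

theorem U_mul [CharP F 2] (b : F) : (U b * U b).1 = !![1, 0, b; 0, 1, 0; 0, 0, 1] := by
  have h2 : (2 : F) = 0 := CharTwo.two_eq_zero
  change (U b).1 * (U b).1 = _
  rw [coe_U]
  ext i j
  fin_cases i <;> fin_cases j <;> simp [Matrix.mul_apply, Fin.sum_univ_three, CharTwo.add_self_eq_zero]

theorem orderOf_U [CharP F 2] {b : F} (hb : b ≠ 0) :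
    orderOf (QuotientGroup.mk (U b) : ProjectiveSpecialLinearGroup (Fin 3) F) = 4 := by
  have h4 : (4 : ℕ) = 2 ^ (1 + 1) := by norm_num
  rw [h4]
  have : Fact (Nat.Prime 2) := ⟨Nat.prime_two⟩
  apply orderOf_eq_prime_pow
  · intro h
    have h1 : (QuotientGroup.mk (U b * U b) : ProjectiveSpecialLinearGroup (Fin 3) F) = QuotientGroup.mk 1 := by
      rw [pow_one, pow_two] at h
      rw [QuotientGroup.mk_mul]
      exact h
    obtain ⟨r, -, hr⟩ := mk_eq h1
    rw [U_mul] at hr
    have := congrFun (congrFun hr 0) 2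
    simp at this
    exact hb this
  · have h1 : U b ^ 2 ^ (1 + 1) = 1 := by
      have h2 : U b ^ 2 ^ (1 + 1) = (U b * U b) * (U b * U b) := by norm_num [pow_succ]; group
      rw [h2]
      apply Subtype.ext
      change (U b * U b).1 * (U b * U b).1 = 1
      rw [U_mul]
      ext i j
      fin_cases i <;> fin_cases j <;> simp [Matrix.mul_apply, Fin.sum_univ_three, CharTwo.add_self_eq_zero]
    rw [← QuotientGroup.mk_pow, h1]
    rfl

variable [Fintype F]

theorem charP (h4 : Fintype.card F = 4) : CharP F 2 := by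
  have : Fact (Nat.Prime 2) := ⟨Nat.prime_two⟩
  exact charP_of_card_eq_prime_pow (show Fintype.card F = 2 ^ 2 by rw [h4]; norm_num)

/-- A character of `7`-defect zero. -/
theorem hasDZ_seven (h4 : Fintype.card F = 4) : HasDZ 7 (ProjectiveSpecialLinearGroup (Fin 3) F) := by
  have := charP h4
  have : Fact (Nat.Prime 7) := ⟨by norm_num⟩
  refine hasDZ_of_not_inverted (p := 7) (QuotientGroup.mk (U (0 : F))) ?_ ?_ ?_
  · rw [← QuotientGroup.mk_mul]
    have h1 : U (0 : F) * U 0 = 1 := by
      apply Subtype.ext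
      rw [U_mul]
      ext i j
      fin_cases i <;> fin_cases j <;> simp
    rw [h1]
    rfl
  · intro hd
    obtain ⟨⟨y, hy⟩, hy'⟩ := exists_prime_orderOf_dvd_card' 7 hd
    rw [Subgroup.orderOf_mk] at hy'
    rw [Subgroup.mem_centralizer_singleton_iff] at hy
    obtain ⟨N, rfl⟩ := QuotientGroup.mk_surjective y
    have h1 : (QuotientGroup.mk (N * U 0 * N⁻¹) : ProjectiveSpecialLinearGroup (Fin 3) F) =
        QuotientGroup.mk (U 0) := by
      rw [QuotientGroup.mk_mul, QuotientGroup.mk_mul, QuotientGroup.mk_inv]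
      rw [mul_inv_eq_iff_eq_mul]
      exact hy
    obtain ⟨h10, h20, -⟩ := entries (of_conj three_ne h1)
    have hv : (Pi.single 0 1 : Fin 3 → F) ≠ 0 := by simp
    refine not_seven h4 hy' _ (exists_fixed N (c := N.1 0 0) hv ?_)
    ext i
    rw [mulVec_single_one]
    fin_cases i
    · simp
    · simpa using h10
    · simpa using h20
  · intro x hx hreal
    obtain ⟨P, hP⟩ := exists_fixed_of_real hreal
    exact not_seven h4 hx P hP

end dz

section row

variable {F : Type} [Field F] [Fintype F]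

theorem vz_U (h4 : Fintype.card F = 4) {x : ProjectiveSpecialLinearGroup (Fin 3) F} (hx : 2 ∣ orderOf x) :
    VZ _ x := by
  have hp := charP h4
  have : Fact (Nat.Prime 2) := ⟨Nat.prime_two⟩
  have h1 : IsLieTypeChar 2 (ProjectiveSpecialLinearGroup (Fin 3) F) :=
    Or.inl ⟨F, inferInstance, inferInstance, hp, 3, by norm_num, by norm_num, ⟨MulEquiv.refl _⟩⟩
  have : IsSimpleGroup (ProjectiveSpecialLinearGroup (Fin 3) F) := Cfsg.Agent.S0249.result 3 (by norm_num)
  exact H690.LieGood.vz_of_hasSplit (H690.LieRow.hasSplit Nat.prime_two h1) hx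

/-- **The row of `PSL(3, 4)`**. -/
theorem row_l34 (h4 : Fintype.card F = 4) :
    Row.{w, 0} (ProjectiveSpecialLinearGroup (Fin 3) F) where
  vz := by
    have := charP h4
    exact ⟨QuotientGroup.mk (U 1), by rw [orderOf_U one_ne_zero]; norm_num,
      vz_U h4 (by rw [orderOf_U one_ne_zero]; norm_num)⟩
  as := by
    classical
    have := charP h4
    intro G _ _ f hf hn hc hst
    have : Fact (Nat.Prime 7) := ⟨by norm_num⟩
    have : Fact (Nat.Prime 2) := ⟨Nat.prime_two⟩
    have hS := card_psl h4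
    have h1 := index_mul_card_dvd f hf hn hc
    rw [Cfsg.Agent.S0813.result 2 2 (by norm_num) (by rw [h4]; norm_num) 3 (by norm_num) (by norm_num),
      Cfsg.Agent.S0265.result, card_sl h4, hS] at h1
    have h2 : f.range.index ∣ 12 := by
      have h3 : (if 3 = 2 then 1 else 2) * 2 * 60480 = 12 * 20160 := by norm_num
      rw [h3] at h1
      exact Nat.dvd_of_mul_dvd_mul_right (by norm_num) h1
    have h5 : f.range.index = 2 := by
      by_contra hne
      have hfac : (Nat.card (ProjectiveSpecialLinearGroup (Fin 3) F)).factorization 7 = 1 := by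
        rw [hS]
        have : (20160 : ℕ) = 7 * 2880 := by norm_num
        rw [this, Nat.factorization_mul (by norm_num) (by norm_num), Finsupp.add_apply,
          Nat.Prime.factorization_self (by norm_num), Nat.factorization_eq_zero_of_not_dvd (by norm_num)]
      refine not_star_of_dz (p := 7) (by norm_num) hfac (hasDZ_seven h4) f hf hn ?_ ?_ hst
      · intro h6
        have := h6.trans h2
        norm_num at this
      · rw [hS]
        have h6 : f.range.index ≤ 12 := Nat.le_of_dvd (by norm_num) h2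
        generalize f.range.index = d at *
        interval_cases d <;> revert h2 hne <;> decide
    have hconj : ∀ b : F, b ≠ 0 → IsConj (f (QuotientGroup.mk (U 1))) (f (QuotientGroup.mk (U b))) := by
      intro b hb
      refine hst.isConj (d := 4) (van_of_vz f hf hn (vz_U h4 ?_)) (van_of_vz f hf hn (vz_U h4 ?_))
        (by norm_num) ?_ ?_ (orderOf_pos _)
      · rw [orderOf_U one_ne_zero]; norm_num
      · rw [orderOf_U hb]; norm_num
      · rw [orderOf_injective f hf, orderOf_U one_ne_zero]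
      · rw [orderOf_injective f hf, orderOf_U hb]
    have hu : ∀ t : F, t ≠ 0 → t ^ 3 = 1 := by
      intro t ht
      have := FiniteField.pow_card_sub_one_eq_one t ht
      rwa [h4] at this
    have hnc : ∀ (a b : F) (g : G), a ≠ 0 → b ≠ 0 → a ≠ b →
        g * f (QuotientGroup.mk (U a)) * g⁻¹ = f (QuotientGroup.mk (U b)) → g ∉ f.range := by
      rintro a b g ha hb hab hg ⟨s, rfl⟩
      refine not_conj hb three_ne hu hab (isConj_iff.2 ⟨s, hf ?_⟩)
      rw [map_mul, map_mul, map_inv, hg]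
    obtain ⟨b, hb0, hb1⟩ : ∃ b : F, b ≠ 0 ∧ b ≠ 1 := by
      by_contra hcon
      push Not at hcon
      have h6 : (Finset.univ : Finset F) ⊆ {0, 1} := by
        intro b _
        by_cases hb : b = 0
        · simp [hb]
        · simp [hcon b hb]
      have h7 := Finset.card_le_card h6
      rw [Finset.card_univ, h4] at h7
      have := Finset.card_le_two (a := (0 : F)) (b := 1)
      omega
    have hb2 : b ^ 2 ≠ 1 := by
      intro h6
      apply hb1
      have h7 := hu b hb0
      rw [pow_succ, h6, one_mul] at h7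
      exact h7
    have hb3 : b ≠ b ^ 2 := by
      intro h6
      apply hb1
      have h7 : b * b = b * 1 := by rw [mul_one, ← pow_two, ← h6]
      exact mul_left_cancel₀ hb0 h7
    obtain ⟨g, hg⟩ := isConj_iff.1 (hconj b hb0)
    obtain ⟨k, hk⟩ := isConj_iff.1 (hconj (b ^ 2) (pow_ne_zero 2 hb0))
    have h8 := hnc 1 b g one_ne_zero hb0 (Ne.symm hb1) hg
    have h9 := hnc 1 (b ^ 2) k one_ne_zero (pow_ne_zero 2 hb0) (Ne.symm hb2) hk
    refine hnc b (b ^ 2) (k * g⁻¹) hb0 (pow_ne_zero 2 hb0) hb3 ?_ ?_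
    · rw [← hk, ← hg]
      group
    · rw [Subgroup.mul_mem_iff_of_index_two h5, inv_mem_iff]
      exact ⟨fun h => absurd h h9, fun h => absurd h h8⟩

end row

end Cfsg.Agent.H723.L34
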