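import Mathlib
import Cfsg.Agent.H723.Kill
import Cfsg.Agent.H723.L2Even
import Cfsg.Agent.H714.AltMore

/-!
# S4983 for the alternating groups
-/

set_option autoImplicit false

namespace Cfsg.Agent.H723.Alt

open Cfsg Cfsg.Agent.H723.Red Cfsg.Agent.H723.Kill Cfsg.Agent.TwoFusion.ElemCentSylow
open Cfsg.Agent.H713

theorem simple {n : ℕ} (hn : 5 ≤ n) : IsSimpleGroup (alternatingGroup (Fin n)) :=
  alternatingGroup.isSimpleGroup (by rw [Nat.card_eq_fintype_card, Fintype.card_fin]; exact hn)

theorem hyp_five : Hyp (alternatingGroup (Fin 5)) := by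
  have key : ∀ t a : Equiv.Perm (Fin 5), (t * t = 1 ∧ t ≠ 1 ∧ Equiv.Perm.sign t = 1 ∧
      Equiv.Perm.sign a = 1 ∧ a * t = t * a) → a * a = 1 := by decide +kernel
  intro t ht
  have ht1 : t ≠ 1 := by
    rintro rfl
    rw [orderOf_one] at ht
    omega
  have htt : t * t = 1 := by rw [← pow_two, ← ht, pow_orderOf_eq_one]
  have h3 : ∀ a ∈ Subgroup.centralizer ({t} : Set (alternatingGroup (Fin 5))), a * a = 1 := by
    intro a ha
    rw [Subgroup.mem_centralizer_singleton_iff] at ha
    apply Subtype.ext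
    exact key t a ⟨congrArg Subtype.val htt, fun h => ht1 (Subtype.ext h),
      Equiv.Perm.mem_alternatingGroup.1 t.2, Equiv.Perm.mem_alternatingGroup.1 a.2,
      congrArg Subtype.val ha⟩
  refine ⟨⟨⟨fun a b => ?_⟩⟩, fun a ha => by rw [pow_two]; exact h3 a ha⟩
  apply Subtype.ext
  change (a : alternatingGroup (Fin 5)) * b = b * a
  have e1 := h3 _ a.2
  have e2 := h3 _ b.2
  have e3 := h3 _ (mul_mem a.2 b.2)
  have i1 := inv_eq_of_mul_eq_one_right e1
  have i2 := inv_eq_of_mul_eq_one_right e2
  have i3 := inv_eq_of_mul_eq_one_right e3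
  rw [← i3, mul_inv_rev, i1, i2]

theorem not_oneZero_five : ¬ OneZero (alternatingGroup (Fin 5)) := by
  have hs := simple (n := 5) le_rfl
  have hcard : Nat.card (alternatingGroup (Fin 5)) = 60 := by
    rw [Nat.card_eq_fintype_card]
    decide +kernel
  have : Fact (Nat.Prime 2) := ⟨Nat.prime_two⟩
  let T : Sylow 2 (alternatingGroup (Fin 5)) := default
  have h2 : 2 ∣ Nat.card (alternatingGroup (Fin 5)) := by rw [hcard]; norm_num
  have hnn : ¬ (T : Subgroup (alternatingGroup (Fin 5))).Normal :=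
    L2Even.not_normal Nat.prime_two Nat.prime_three (by norm_num) h2 (by rw [hcard]; norm_num) T
  have hna : ¬ IsMulCommutative (alternatingGroup (Fin 5)) := by
    intro hc
    exact hnn (Subgroup.normal_of_isMulCommutative _)
  have c := ctx_of T (SmallSimple.EvenOrder.not_isCyclic_sylow_two hna h2 T) hnn hyp_five
  obtain ⟨g, hg⟩ : ∃ g : alternatingGroup (Fin 5), T ≠ g • T := by
    by_contra hcon
    push Not at hcon
    apply hnn
    rw [← Subgroup.normalizer_eq_top_iff, eq_top_iff]
    intro g _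
    exact (Sylow.smul_eq_iff_mem_normalizer).1 (hcon g).symm
  exact Two.not_oneZero_of_ctx c hg

theorem not_oneZero_six : ¬ OneZero (alternatingGroup (Fin 6)) := by
  have hcard : Nat.card (alternatingGroup (Fin 6)) = 5 ^ 1 * 72 := by
    rw [Nat.card_eq_fintype_card]
    decide +kernel
  have : Fact (Nat.Prime 5) := ⟨by norm_num⟩
  have h2 := H714.AltRow.two_pre (n := 6) (by omega)
  have htr : MulAction.IsPretransitive ↥(alternatingGroup (Fin 6)) (Fin 6) :=
    MulAction.isPretransitive_of_is_two_pretransitive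
  have hχ := (Cfsg.Agent.S0157.result (G := ↥(alternatingGroup (Fin 6))) (Fin 6) (by simp)).2 h2
  refine kill_card (by norm_num) (by norm_num) hcard (by norm_num) (by norm_num) (by norm_num)
    ⟨_, hχ, fun x hx => ?_⟩
  refine zero_of_dvd hχ (default : Sylow 5 _) (d := 5) ?_ ?_ x hx
  · have h3 : Nat.card (MulAction.fixedBy (Fin 6) (1 : alternatingGroup (Fin 6))) = 6 := by
      have : MulAction.fixedBy (Fin 6) (1 : alternatingGroup (Fin 6)) = Set.univ := by
        ext i
        simp
      rw [this, Nat.card_univ, Nat.card_eq_fintype_card, Fintype.card_fin]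
    rw [h3]
    norm_num
  · rw [Sylow.card_eq_multiplicity, hcard]
    have : (5 ^ 1 * 72 : ℕ).factorization 5 = 1 := by
      rw [Nat.factorization_mul (by norm_num) (by norm_num), Nat.Prime.factorization_pow (by norm_num)]
      simp [Nat.factorization_eq_zero_of_not_dvd (show ¬ 5 ∣ 72 by norm_num)]
    rw [this, pow_one]

theorem not_oneZero {n : ℕ} (hn : 5 ≤ n) : ¬ OneZero (alternatingGroup (Fin n)) := by
  rcases Nat.lt_or_ge n 7 with h7 | h7
  · obtain rfl | rfl : n = 5 ∨ n = 6 := by omega
    · exact not_oneZero_five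
    · exact not_oneZero_six
  · intro h
    obtain ⟨χ, x, y, hx, hy, hxy⟩ := H714.AltMore.exists_two_zeros h7
    exact hxy (h χ χ.2 x y hx hy)

end Cfsg.Agent.H723.Alt
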