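import Mathlib
import Cfsg.Agent.H723.LieTwo
import Cfsg.Agent.H723.L2Odd
import Cfsg.Agent.H723.L2Even
import Cfsg.Agent.H690.LieRow

/-!
# S4983 for the groups of Lie type
-/

set_option autoImplicit false

namespace Cfsg.Agent.H723.Lie

open Cfsg Cfsg.Agent.H723.Red Cfsg.Agent.H723.Kill

universe u

variable {G : Type u} [Group G] [Finite G] [IsSimpleGroup G]

theorem not_oneZero_psl2 (hna : ¬ IsMulCommutative G) (h2 : 2 ∣ Nat.card G) {F : Type} [Field F]
    [Fintype F] (e : G ≃* Matrix.ProjectiveSpecialLinearGroup (Fin 2) F) : ¬ OneZero G := by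
  obtain ⟨p, hp⟩ := CharP.exists F
  have hpp : p.Prime := CharP.char_is_prime F p
  have : Fact p.Prime := ⟨hpp⟩
  by_cases hp2 : p = 2
  · subst hp2
    have h4 : 4 ≤ Fintype.card F := by
      obtain ⟨f, hf⟩ := L2Even.exists_pow (F := F)
      by_contra hcon
      have hlt : 1 < Fintype.card F := Fintype.one_lt_card
      have hq : Fintype.card F = 2 := by
        have : Even (Fintype.card F) := L2Even.card_even
        obtain ⟨r, hr⟩ := this
        omega
      have hc := L2Even.card_psl e
      rw [hq] at hc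
      have h5 := SmallSimple.EvenOrder.four_dvd_card hna h2
      rw [hc] at h5
      norm_num at h5
    obtain ⟨c, P, Q, hPQ⟩ := L2Even.ctx e h4
    exact Two.not_oneZero_of_ctx c hPQ
  · exact L2Odd.not_oneZero hp2 e

theorem not_oneZero (hna : ¬ IsMulCommutative G) (h2 : 2 ∣ Nat.card G) {p : ℕ} (hp : p.Prime)
    (h : IsLieTypeChar p G) : ¬ OneZero G := by
  by_cases hp2 : p = 2
  · subst hp2
    exact LieTwo.not_oneZero hna h2 h
  · rcases H690.LieRow.lie_odd hp hp2 h with ⟨r, hr, hr2, hs, g, hg⟩ | ⟨F, i1, i2, ⟨e⟩⟩ | h1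
    · have : Fact r.Prime := ⟨hr⟩
      refine kill_order hr (zs_of_steinberg (H163.Steinberg.exists_irr_of_hasSplit hs)) g ?_ ?_
      · rw [hg]; exact Dvd.intro_left _ rfl
      · rw [hg]
        have := hr.pos
        omega
    · exact not_oneZero_psl2 hna h2 e
    · exact LieTwo.not_oneZero hna h2 h1

end Cfsg.Agent.H723.Lie
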