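import Mathlib
import Cfsg.Prelude.Def_Classification2
import Cfsg.Agent.H723.Lie
import Cfsg.Agent.H723.Alt
import Cfsg.Agent.OddHalf.Known

/-!
# S4983 from the sporadic rows
-/

set_option autoImplicit false

namespace Cfsg.Agent.H723.Final

open Cfsg Cfsg.Agent.H723.Red

universe u

/-- What has to be known about the sporadic groups and the Tits group. -/
def SporRow : Prop :=
  ∀ (X : Type u) [Group X] [Finite X] [IsSimpleGroup X], IsSporadicGroup X ∨ Lie.IsoTits X → ¬ OneZero X

theorem not_oneZero (hs : SporRow.{u}) {X : Type u} [Group X] [Finite X] [IsSimpleGroup X]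
    (hna : ¬ IsMulCommutative X) (h2 : 2 ∣ Nat.card X) (h : IsKnownSimple' X) : ¬ OneZero X := by
  rcases OddHalf.Known.classify hna h with ⟨n, hn, ⟨e⟩⟩ | ⟨p, hp, -, h⟩ | (h | h) | h
  · intro h
    exact Alt.not_oneZero hn (h.comp_surjective e.toMonoidHom e.surjective)
  · exact Lie.not_oneZero hna h2 hp h
  · exact Lie.not_oneZero hna h2 Nat.prime_two h
  · exact hs X (Or.inr h)
  · exact hs X (Or.inl h)

/-- S4983 modulo the classification, the odd order theorem and the sporadic rows. -/
theorem main (hK : ∀ (X : Type u) [Group X] [Finite X] [IsSimpleGroup X], IsKnownSimple' X)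
    (hFT : ∀ (X : Type u) [Group X] [Finite X], Odd (Nat.card X) → Group.IsSolvable X)
    (hs : SporRow.{u}) {G : Type u} [Group G] [Finite G] (hna : ¬ IsMulCommutative G)
    (h : ∀ χ : Cfsg.IrrCharacter G,
      Set.ncard {C : ConjClasses G | ∀ g ∈ C.carrier, (χ : G → ℂ) g = 0} ≤ 1) :
    ∃ H : Subgroup G, Cfsg.IsFrobeniusComplement H ∧ Nat.card H = 2 ∧
      Odd (Set.ncard (Cfsg.frobeniusKernel H)) := by
  rcases reduce hna (oneZero_of_ncard h) with h1 | ⟨S, i1, i2, hS, hnc, h1⟩
  · exact h1
  · exfalso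
    refine not_oneZero hs hnc ?_ (hK S) h1
    by_contra h2
    have h3 : Odd (Nat.card S) := by
      rw [← Nat.not_even_iff_odd, even_iff_two_dvd]
      exact h2
    have h4 := hFT S h3
    apply hnc
    exact ⟨⟨IsSimpleGroup.comm_iff_isSolvable.2 h4⟩⟩

end Cfsg.Agent.H723.Final
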